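import Groth.Agent.S0185
import Groth.Agent.S0151
import Groth.Agent.EtpbcA.ArtinField
import Groth.Agent.Etrest.ConstBasic
import Groth.Agent.EtpbcB.TorsionBasic
import Groth.Agent.EtpbcB.TorsEt
import Groth.Agent.Fixpt.H902.CoefBridge
import Mathlib.Algebra.Field.ULift

/-!
# Finiteness and vanishing of `HH (ULift (ZMod l)) X`, `X` proper over a separably closed field
-/

set_option autoImplicit false
universe u

open CategoryTheory CategoryTheory.Limits AlgebraicGeometry Opposite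
open scoped Groth.Agent.Etcore.EtInst Groth.Agent.Sga4B.ModEtInst

namespace Groth.Agent.Sga4h.H179.Inputs

open Groth.Agent.Fixpt.H902 Groth.Agent.Fixpt.H902.MX

variable {k : Type u} [Field k] [IsSepClosed k] {X : Scheme.{u}}

theorem killedBy (X : Scheme.{u}) (n : ℕ) : EtCoh.KilledBy n (EtCoh.const X (ZMod n)) :=
  Groth.Agent.EtpbcB.TorsionBasic.killedBy_const (ZMod n) n fun x => by
    rw [nsmul_eq_mul, ZMod.natCast_self, zero_mul]

/-- Finiteness. -/
theorem finite_HH (p : X ⟶ Spec (CommRingCat.of k)) [IsProper p] (n : ℕ) (hn : 0 < n) (q : ℕ) :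
    Finite (HH (ULift.{u + 1} (ZMod n)) X (ULift.{u + 1} (ZMod n)) q) := by
  have : NeZero n := ⟨hn.ne'⟩
  have h : Finite (EtCoh.H X (EtCoh.const X (ZMod n)) q) :=
    Groth.Agent.S0185.result X p n hn _ (Etrest.ConstBasic.isConstructible_const X (ZMod n)) (killedBy X n) q
  exact Finite.of_equiv _ (CoefBridge.E (ULift.{u + 1} (ZMod n)) X q).symm.toEquiv

/-- Vanishing in large degrees. -/
theorem exists_vanish (p : X ⟶ Spec (CommRingCat.of k)) [IsProper p] (n : ℕ) (hn : 0 < n) :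
    ∃ N : ℕ, ∀ q, N < q → Subsingleton (HH (ULift.{u + 1} (ZMod n)) X (ULift.{u + 1} (ZMod n)) q) := by
  obtain ⟨d, hd⟩ := Groth.Agent.S0151.result k X p 0 (Groth.Agent.EtpbcA.Artin.cohDimLE_of_isSepClosed k)
  refine ⟨d, fun q hq => ?_⟩
  have h : Subsingleton (EtCoh.H X (EtCoh.const X (ZMod n)) q) :=
    hd _ (Groth.Agent.EtpbcB.TorsEt.isTorsion_of_killedBy hn _ (killedBy X n)) q hq
  exact (CoefBridge.E (ULift.{u + 1} (ZMod n)) X q).toEquiv.subsingleton

end Groth.Agent.Sga4h.H179.Inputs
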