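import Groth.Agent.Sga4h.H179.Red
import Groth.Agent.Sga4h.H179.Inputs
import Groth.Agent.Sga4h.H926.CompH

/-!
# The Lefschetz fixed point formula from the connected core

`main`: over an algebraically closed field `k`, if `lef (ULift (ZMod l)) f = fixCount p f hf` for all primes `l`
invertible in `k` and all integral `X` proper and smooth of some relative dimension `d`, then the formula
holds for all proper smooth `X` and all finite coefficient fields.
-/

set_option autoImplicit false
universe u

open CategoryTheory CategoryTheory.Limits AlgebraicGeometry Opposite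

namespace Groth.Agent.Sga4h.H179.Final

open Groth.Agent.Fixpt.H902 Groth.Agent.Fixpt.H902.MX

/-- The formula for `ULift (ZMod l)` and all proper smooth `X`. -/
theorem of_core (k : Type u) [Field k] [IsSepClosed k] (l : ℕ) (hl : l.Prime)
    (hcore : ∀ {X : Scheme.{u}} (d : ℕ) (p : X ⟶ Spec (CommRingCat.of k)) [IsProper p]
      [SmoothOfRelativeDimension d p] [IsIntegral X] (f : X ⟶ X) (hf : f ≫ p = p)
      [IsFinite (FinFr.fixSchemeTo p f hf)],
      Fixpt.H926.Comp.lef (ULift.{u + 1} (ZMod l)) f = (FinFr.fixCount p f hf : ULift.{u + 1} (ZMod l)))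
    {X : Scheme.{u}} (p : X ⟶ Spec (CommRingCat.of k)) [IsProper p] [Smooth p]
    (f : X ⟶ X) (hf : f ≫ p = p) [IsFinite (FinFr.fixSchemeTo p f hf)] :
    Fixpt.H926.Comp.lef (ULift.{u + 1} (ZMod l)) f = (FinFr.fixCount p f hf : ULift.{u + 1} (ZMod l)) := by
  have : Fact l.Prime := ⟨hl⟩
  refine H926.CompH.of_connected (ULift.{u + 1} (ZMod l)) (fun {X} d p _ _ _ n => ?_)
    (fun {X} d p _ _ _ => ?_) (fun {X} d p _ _ _ f hf _ => hcore d p f hf) p f hf
  · have := Inputs.finite_HH p l hl.pos n
    refine ⟨Module.Finite.of_finite, ?_⟩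
    let _ : Field (ULift.{u + 1} (ZMod l)) := inferInstance
    exact Module.Free.of_divisionRing _ _
  · obtain ⟨N, hN⟩ := Inputs.exists_vanish p l hl.pos
    exact ⟨N + 1, fun n hn => hN n (by omega)⟩

/-- **The Lefschetz fixed point formula from the connected core.** -/
theorem main (k : Type u) [Field k] [IsAlgClosed k]
    (hcore : ∀ l : ℕ, l.Prime → (l : k) ≠ 0 →
      ∀ {X : Scheme.{u}} (d : ℕ) (p : X ⟶ Spec (CommRingCat.of k)) [IsProper p]
        [SmoothOfRelativeDimension d p] [IsIntegral X] (f : X ⟶ X) (hf : f ≫ p = p)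
        [IsFinite (FinFr.fixSchemeTo p f hf)],
        Fixpt.H926.Comp.lef (ULift.{u + 1} (ZMod l)) f = (FinFr.fixCount p f hf : ULift.{u + 1} (ZMod l)))
    (Λ : Type) [Field Λ] [Finite Λ] (hΛ : (ringChar Λ : k) ≠ 0) [Fact FinFr.PullExact.{u}]
    {X : Scheme.{u}} (p : X ⟶ Spec (CommRingCat.of k)) [IsProper p] [Smooth p]
    (f : X ⟶ X) (hf : f ≫ p = p) [IsFinite (FinFr.fixSchemeTo p f hf)] :
    ∑ᶠ i : ℕ, (-1 : Λ) ^ i * LinearMap.trace Λ _ (FinFr.endConst (Λ := Λ) f i) =
      (FinFr.fixCount p f hf : Λ) := by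
  have hc : CompactSpace X := by
    have : QuasiCompact p := inferInstance
    exact (HasAffineProperty.iff_of_isAffine (P := @QuasiCompact)).1 this
  have hq : QuasiSeparatedSpace X := by
    have : QuasiSeparated p := inferInstance
    exact (HasAffineProperty.iff_of_isAffine (P := @QuasiSeparated)).1 this
  exact Red.of_zmod k Λ hΛ f (FinFr.fixCount p f hf) fun l hl hlk =>
    of_core k l hl (fun {X} d p _ _ _ f hf _ => hcore l hl hlk d p f hf) p f hf

end Groth.Agent.Sga4h.H179.Final
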