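import Groth.Prelude.Def_SGA4h
import Groth.Agent.Fixpt.H902.Coef
import Groth.Agent.Fixpt.H902.MXBridge
import Groth.Agent.Sga4h.H915.DictEnd
import Mathlib.Algebra.Field.ULift

/-!
# Reduction of the Lefschetz trace formula with coefficients in a finite field to `ULift (ZMod l)`

`ls Λ f` is the alternating sum of the traces of `f^*` on `MX.HH Λ X Λ n`.

* `ls_ulift`: for `Λ : Type`, `ls (ULift Λ) f` is the alternating sum of the traces of `FinFr.endConst f`;
* `ls_algebra`: change of coefficients `F ⟶ Λ` (`F` a field);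
* `of_zmod`: the formula for `ULift (ZMod l)` implies the formula for every finite field of characteristic `l`.
-/

set_option autoImplicit false
universe u

open CategoryTheory CategoryTheory.Limits AlgebraicGeometry Opposite
open scoped Groth.Agent.Etcore.EtInst Groth.Agent.Sga4B.ModEtInst

namespace Groth.Agent.Sga4h.H179.Red

open Groth.Agent.Fixpt.H902 Groth.Agent.Fixpt.H902.MX

/-- The alternating sum of the traces of `f^*` on the cohomology of the constant sheaf `Λ`. -/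
noncomputable def ls (Λ : Type (u + 1)) [CommRing Λ] {X : Scheme.{u}} (f : X ⟶ X) : Λ :=
  ∑ᶠ n : ℕ, (-1 : Λ) ^ n * LinearMap.trace Λ (HH Λ X Λ n) (res f Λ n)

/-- Comparison with `FinFr.endConst`. -/
theorem ls_ulift (Λ : Type) [CommRing Λ] [Fact FinFr.PullExact.{u}] {X : Scheme.{u}} (f : X ⟶ X) :
    ls (ULift.{u + 1} Λ) f =
      ULift.up.{u + 1} (∑ᶠ i : ℕ, (-1 : Λ) ^ i * LinearMap.trace Λ _ (FinFr.endConst (Λ := Λ) f i)) :=
  (MXBridge.lefNum_endo (Λ := ULift.{u + 1} Λ) f).symm.trans (H915.DictEnd.lefNum_endo Λ f)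

/-- Change of coefficients. -/
theorem ls_algebra (F Λ : Type (u + 1)) [Field F] [CommRing Λ] [Nontrivial Λ] [Algebra F Λ] {X : Scheme.{u}}
    [CompactSpace X] [QuasiSeparatedSpace X] (f : X ⟶ X) :
    ls Λ f = algebraMap F Λ (ls F f) := by
  have h := AddMonoidHom.map_finsum_of_injective (algebraMap F Λ : F →+ Λ)
    (FaithfulSMul.algebraMap_injective F Λ)
    (fun n : ℕ => (-1 : F) ^ n * LinearMap.trace F (HH F X F n) (res f F n))
  refine Eq.trans (finsum_congr fun n => ?_) h.symm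
  rw [Coef.trace_res F Λ f n]
  change _ = algebraMap F Λ _
  rw [map_mul, map_pow, map_neg, map_one]

/-- **Reduction to `ULift (ZMod l)`.** -/
theorem of_zmod (k : Type u) [Field k] (Λ : Type) [Field Λ] [Finite Λ] (hΛ : (ringChar Λ : k) ≠ 0)
    [Fact FinFr.PullExact.{u}] {X : Scheme.{u}} [CompactSpace X] [QuasiSeparatedSpace X] (f : X ⟶ X) (c : ℕ)
    (H : ∀ l : ℕ, l.Prime → (l : k) ≠ 0 → ls (ULift.{u + 1} (ZMod l)) f = (c : ULift.{u + 1} (ZMod l))) :
    ∑ᶠ i : ℕ, (-1 : Λ) ^ i * LinearMap.trace Λ _ (FinFr.endConst (Λ := Λ) f i) = (c : Λ) := by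
  have hp : (ringChar Λ).Prime := CharP.char_is_prime Λ (ringChar Λ)
  have : Fact (ringChar Λ).Prime := ⟨hp⟩
  let φ : ULift.{u + 1} (ZMod (ringChar Λ)) →+* ULift.{u + 1} Λ :=
    (ULift.ringEquiv.{0, u + 1} (R := Λ)).symm.toRingHom.comp
      ((ZMod.castHom (dvd_refl (ringChar Λ)) Λ).comp
        (ULift.ringEquiv.{0, u + 1} (R := ZMod (ringChar Λ))).toRingHom)
  let _ : Algebra (ULift.{u + 1} (ZMod (ringChar Λ))) (ULift.{u + 1} Λ) := φ.toAlgebra
  have h1 := ls_algebra (ULift.{u + 1} (ZMod (ringChar Λ))) (ULift.{u + 1} Λ) f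
  rw [H _ hp hΛ, ls_ulift, map_natCast] at h1
  exact congrArg ULift.down h1

end Groth.Agent.Sga4h.H179.Red
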